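import Cfsg.Agent.Co1C.Cert_0

set_option autoImplicit false
set_option Elab.async false
set_option maxRecDepth 100000
set_option linter.all false

namespace Cfsg.Agent.Co1C
open Cfsg.Agent.CGT

open Cfsg.Agent.Leech
theorem m_p : Holds (lp m_ns) m_R := (holdsB_sound m_v m_p0)
theorem m_ts_ok : TabsOK 17 (lp m_ns) m_ts :=
  TabsFrom.ok ⟨TabOK.of_beq m_v m_t0_b,
    TabOK.of_beq m_v m_t1_b,
    TabOK.of_beq m_v m_t2_b,
    TabOK.next (j := 1) (TabOK.of_beq m_v m_t2_b) m_p (by decide +kernel),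
    TabOK.of_beq m_v m_t4_b,
    TabOK.of_beq m_v m_t5_b,
    TabOK.of_beq m_v m_t6_b,
    TabOK.next (j := 3) (TabOK.of_beq m_v m_t6_b) m_p (by decide +kernel),
    TabOK.of_beq m_v m_t8_b,
    TabOK.next (j := 4) (TabOK.of_beq m_v m_t8_b) m_p (by decide +kernel),
    TabOK.of_beq m_v m_t10_b,
    TabOK.next (j := 5) (TabOK.of_beq m_v m_t10_b) m_p (by decide +kernel),
    Nat.le_of_ble_eq_true (by decide +kernel)⟩
theorem c_sound {G : Type*} [Group G] {φ : G →* Equiv.Perm ℕ} {γ : ℕ → G}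
    (M : Model φ γ 17 m_ns m_ts) : ChainSound φ (gp γ [0, 2, 4, 6, 8, 10]) 17 [] c_ls :=
  ⟨Level.ok_sound' M c_l0_ok,
   Level.ok_sound' M c_l1_ok,
   Level.ok_sound' M c_l2_ok,
   Level.ok_sound' M c_l3_ok,
   Level.ok_sound' M c_l4_ok, trivial⟩
theorem m_fix : fixAbove 17 md.N m_ns = true := allLt_iff.2 <| fun j hj => by
  change j < 6 at hj
  interval_cases j
  exacts [fx0, fx1, fx2, fx3, fx4, fx5]
theorem gens_ok : ∀ j < As.length, md.GenOK [] As m_ns j := fun j hj => by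
  change j < 6 at hj
  interval_cases j
  exacts [g0, g1, g2, g3, g4, g5]
/-- the generators -/
noncomputable abbrev γ : ℕ → Cfsg.Spor.Co1 := fun j => (γM Cfsg.Co0 As j : Cfsg.Spor.Co1)
theorem cert' : ∃ φ, Cert φ γ 17 m_ns m_ts [0, 2, 4, 6, 8, 10] c_ls ∧
    ∀ g : Cfsg.Co0, φ (g : Cfsg.Spor.Co1) ∈ bddPerm md.N ∧ ∀ i < md.N, md.Rel g i (φ (g : Cfsg.Spor.Co1) i) :=
  MD.cert1 md_ok md_s (Subtype.ext ((coe_lv (by decide +kernel)).trans (by decide +kernel))) m_v m_fix rfl gens_ok (by decide +kernel) m_ts_ok (fun _ _ _ _ M => c_sound M) (by decide +kernel)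
theorem cert : ∃ φ, Cert φ γ 17 m_ns m_ts [0, 2, 4, 6, 8, 10] c_ls := cert'.imp fun _ h => h.1
theorem card_eq : Nat.card Cfsg.Spor.Co1 = 4157776806543360000 := by
  obtain ⟨φ, C⟩ := cert
  exact C.card.trans (by decide +kernel)

end Cfsg.Agent.Co1C
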