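import Cfsg.Agent.Co1C.CertD2

set_option autoImplicit false
set_option Elab.async false
set_option maxRecDepth 100000
set_option linter.all false

namespace Cfsg.Agent.Co1C
open Cfsg.Agent.CGT

theorem m_t0_b : Tab.beq (mkTab 17 10 m_ns 0) m_t0 = true := by decide +kernel
theorem m_t1_b : Tab.beq (mkTab 17 10 m_ns 1) m_t1 = true := by decide +kernel
theorem m_t2_b : Tab.beq (mkTab 17 10 m_ns 2) m_t2 = true := by decide +kernel
theorem m_t4_b : Tab.beq (mkTab 17 10 m_ns 4) m_t4 = true := by decide +kernel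
theorem m_t5_b : Tab.beq (mkTab 17 10 m_ns 5) m_t5 = true := by decide +kernel
theorem m_t6_b : Tab.beq (mkTab 17 10 m_ns 6) m_t6 = true := by decide +kernel
theorem m_t8_b : Tab.beq (mkTab 17 10 m_ns 8) m_t8 = true := by decide +kernel
theorem m_t10_b : Tab.beq (mkTab 17 10 m_ns 10) m_t10 = true := by decide +kernel
theorem m_p0 : holdsB 17 m_ns [[2, 2], [6, 6], [8, 8], [10, 10]] = true := by decide +kernel
open Cfsg.Agent.Leech in
theorem md_ok : md.ok = true := by decide +kernel
theorem md_s : sortedB md.P md.N = true := by decide +kernel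
theorem fx0 : (allLt 17 fun t => Nat.beq (Nat.shiftRight (gat m_ns (Nat.mul 2 0) (sl t 17)) 98280) (Nat.shiftRight (sl t 17) 98280)) = true := by decide +kernel
theorem fx1 : (allLt 17 fun t => Nat.beq (Nat.shiftRight (gat m_ns (Nat.mul 2 1) (sl t 17)) 98280) (Nat.shiftRight (sl t 17) 98280)) = true := by decide +kernel
theorem fx2 : (allLt 17 fun t => Nat.beq (Nat.shiftRight (gat m_ns (Nat.mul 2 2) (sl t 17)) 98280) (Nat.shiftRight (sl t 17) 98280)) = true := by decide +kernel
theorem fx3 : (allLt 17 fun t => Nat.beq (Nat.shiftRight (gat m_ns (Nat.mul 2 3) (sl t 17)) 98280) (Nat.shiftRight (sl t 17) 98280)) = true := by decide +kernel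
theorem fx4 : (allLt 17 fun t => Nat.beq (Nat.shiftRight (gat m_ns (Nat.mul 2 4) (sl t 17)) 98280) (Nat.shiftRight (sl t 17) 98280)) = true := by decide +kernel
theorem fx5 : (allLt 17 fun t => Nat.beq (Nat.shiftRight (gat m_ns (Nat.mul 2 5) (sl t 17)) 98280) (Nat.shiftRight (sl t 17) 98280)) = true := by decide +kernel
open Cfsg.Agent.Leech in
theorem g0 : md.GenOK [] As m_ns 0 := ⟨[9991117, 9533557, 5900369, 1142369, 13783772, 13310864, 9964693, 13844159, 620354, 8838, 13854226, 14055691, 595977, 5143562, 12788538, 10090271, 73666, 2048710, 13567634, 5202876, 14029642, 2979811, 9313314, 854639], by decide +kernel, by decide +kernel⟩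
open Cfsg.Agent.Leech in
theorem g1 : md.GenOK [] As m_ns 1 := ⟨[1178641, 14602845, 1872949, 1165990, 14334620, 60691, 14348857, 1846535, 50941, 13321372, 14336199, 14104478, 872095, 592444, 13017086, 14102678, 13536137, 1518965, 13599073, 381335, 1954199, 15455716, 4805751, 4372269], by decide +kernel, by decide +kernel⟩
open Cfsg.Agent.Leech in
theorem g2 : md.GenOK [] As m_ns 2 := ⟨[900583, 5569388, 5200240, 20391, 13885365, 13166056, 8466709, 1895103, 4327402, 12944624, 9806573, 1427999, 5446824, 8868090, 5810639, 6266911, 409749, 12853786, 5700978, 1976384, 394708, 16604047, 14648812, 1951812], by decide +kernel, by decide +kernel⟩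
open Cfsg.Agent.Leech in
theorem g3 : md.GenOK [] As m_ns 3 := ⟨[12451411, 10463681, 8327706, 13623900, 12629895, 6226001, 4019294, 4201819, 14510704, 2039722, 8433769, 2278663, 2136313, 1192882, 2265890, 8243653, 13412266, 11578257, 8809217, 16121260, 22092, 15689447, 5230960, 6237838], by decide +kernel, by decide +kernel⟩
open Cfsg.Agent.Leech in
theorem g4 : md.GenOK [] As m_ns 4 := ⟨[5513137, 12355803, 15243117, 8927759, 6169573, 670821, 10630374, 8092064, 6139129, 7919574, 4241776, 6895069, 447687, 12653886, 4804409, 2687149, 4676429, 6038517, 10706071, 10940126, 16675156, 10797701, 2914070, 16316204], by decide +kernel, by decide +kernel⟩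
open Cfsg.Agent.Leech in
theorem g5 : md.GenOK [] As m_ns 5 := ⟨[11421481, 11852303, 14893904, 14521276, 8061751, 2361220, 5638108, 6109813, 9348767, 13018452, 3569208, 11850253, 4900664, 3442123, 11434569, 11558041, 16334293, 6744020, 3256298, 15168508, 300027, 15835932, 6504452, 12993652], by decide +kernel, by decide +kernel⟩
theorem c_l0_ok : (ptsOK 17 [] && (wordsIn [0, 2, 4, 6, 8, 10] c_l0.S && c_l0.ok 17 m_ns m_ts [])) = true := by decide +kernel
theorem c_l1_ok : (ptsOK 17 [24311] && (wordsIn [0, 2, 4, 6, 8, 10] c_l1.S && c_l1.ok 17 m_ns m_ts [24311])) = true := by decide +kernel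
theorem c_l2_ok : (ptsOK 17 [1980, 24311] && (wordsIn [0, 2, 4, 6, 8, 10] c_l2.S && c_l2.ok 17 m_ns m_ts [1980, 24311])) = true := by decide +kernel
theorem c_l3_ok : (ptsOK 17 [2, 1980, 24311] && (wordsIn [0, 2, 4, 6, 8, 10] c_l3.S && c_l3.ok 17 m_ns m_ts [2, 1980, 24311])) = true := by decide +kernel
theorem c_l4_ok : (ptsOK 17 [10, 2, 1980, 24311] && (wordsIn [0, 2, 4, 6, 8, 10] c_l4.S && c_l4.ok 17 m_ns m_ts [10, 2, 1980, 24311])) = true := by decide +kernel

end Cfsg.Agent.Co1C
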