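import Cfsg.Agent.Co1C.Cert
import Cfsg.Agent.Leech.Aut

set_option autoImplicit false
set_option Elab.async false
set_option maxRecDepth 100000
set_option linter.all false

namespace Cfsg.Agent.Co1C
open Cfsg.Agent.CGT

noncomputable def g_Ws : List (List ℕ) := [[8, 2, 4, 0, 2, 4, 10, 0, 8, 10, 6, 5, 6, 1, 8, 0, 5, 8, 0, 6, 5, 0, 5, 2, 6, 0, 2], [8, 5, 5, 1, 8, 4, 10, 4, 6, 5, 6, 8, 5, 0, 6, 2, 5, 5, 6, 4, 1, 5, 2, 4, 0, 5, 1], [0, 6, 1, 10, 1, 4, 1, 8, 10, 2, 8, 2, 8, 0, 6, 1, 4, 8, 2, 6, 2, 4, 4, 0, 6, 0, 4], [0, 6, 5, 1, 4, 6, 8, 4, 4, 8, 2, 4, 2, 6, 4, 6, 2, 4, 4, 4, 1, 5, 2], [0, 4, 4, 8, 1, 8, 2, 6, 0, 8, 0, 6, 2, 5, 5, 5, 6, 5, 6, 0, 2, 4, 0, 4], [1, 8, 0, 0, 5, 8, 4, 0, 4, 4, 8, 1, 4, 0, 6, 1, 6, 4, 6, 5, 0, 4], [6, 0, 5, 2, 0, 4, 6, 2, 4, 0, 4, 0, 2, 5,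 0, 4, 1], [1, 4, 4, 0, 6, 4, 6, 1, 6, 4, 1, 5, 0, 5, 1, 4], [2, 5, 1, 4, 1, 5, 1, 5, 2], [5, 2, 1, 4, 4, 2, 4, 1], [5, 2, 1, 4, 4, 2, 4, 1], [5, 2, 1, 4, 4, 2, 4, 1], [1, 5, 2, 0, 4, 4, 4, 2, 4], [1, 2], [1], [0], [2], [4], [6], [8], [10]]
theorem g_s0 : slpB 17 m_ts (chainBase [] c_ls) g_Ws [[5, 1, 2, 2, 1, 5, 2, 1, 2, 1, 1], [2, 0, 2, 0, 0, 0, 4, 3, 1, 1, 3, 5], [0, 0, 0, 0, 4, 1, 5, 5, 3, 0, 4, 0], [11, 6, 11, 7, 10, 8, 10, 9, 9, 6, 6, 10], [11, 6, 11, 11, 7, 11, 10, 10, 8, 8, 8, 7, 8], [13, 14, 13, 13, 13, 14, 14, 13, 13, 14, 12, 15, 15], [12, 15, 12, 15, 15, 13, 12, 14, 12, 15, 12, 15], [12, 15, 12, 15, 12, 13, 12, 15, 12, 15], [12, 15, 12, 15, 12, 15, 12, 12, 13, 15], [13, 15, 13, 14, 13, 15, 13, 15, 15, 13, 14, 12, 12], [17, 17, 19, 24, 16, 16, 19, 23, 24,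 18], [17, 25, 19, 25, 19, 24, 17, 24, 24, 19, 24, 16, 22, 17], [29], [29, 26], [16, 24, 18, 25, 17, 24, 18, 29], [14, 14, 13, 13, 15, 12, 14, 13, 13, 13, 25, 18, 16, 25, 18, 17, 25, 16, 29, 26], [6, 11, 6, 6, 6, 10, 10, 7, 7, 10, 15, 13, 14, 14, 12, 12, 14, 12, 14, 12, 24, 16, 16, 24, 24, 16, 25, 26], [1, 3, 1, 5, 1, 4, 0, 3, 0, 10, 7, 7, 11, 11, 7, 11, 6, 6, 6, 14, 14, 13, 13, 13, 15, 13, 14, 12, 12, 12, 16, 24, 17, 17, 25, 18, 16, 28, 26]] 3 21 = true := by decide +kernel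
theorem g_top {G : Type*} [Group G] {φ : G →* Equiv.Perm ℕ} {γ : ℕ → G}
    (C : Cert φ γ 17 m_ns m_ts [0, 2, 4, 6, 8, 10] c_ls) : gw γ (g_Ws.take 3) = ⊤ := by
  have h0 : SlpTo γ (gw γ (g_Ws.take 3)) g_Ws 3 := fun i hi =>
    ev_mem_gw γ (by interval_cases i <;> decide +kernel)
  rw [eq_top_iff, ← C.gen]
  exact SlpTo.gp_le (SlpTo.step C.M C.base (by decide +kernel) h0 g_s0) (by decide +kernel)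

end Cfsg.Agent.Co1C
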