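import Cfsg.Agent.Co1C.OutX
import Cfsg.Agent.Co1C.OutU
import Cfsg.Agent.Co1C.OutG
import Cfsg.Agent.CGT.Out2

set_option autoImplicit false
set_option Elab.async false
set_option maxRecDepth 100000
set_option linter.all false

namespace Cfsg.Agent.Co1C
open Cfsg.Agent.CGT

noncomputable def od : OutD := ⟨17, m_ts, (chainBase [] c_ls), [8, 2, 4, 0, 2, 4, 10, 0, 8, 10, 6, 5, 6, 1, 8, 0, 5, 8, 0, 6, 5, 0, 5, 2, 6, 0, 2], [8, 5, 5, 1, 8, 4, 10, 4, 6, 5, 6, 8, 5, 0, 6, 2, 5, 5, 6, 4, 1, 5, 2, 4, 0, 5, 1], [0, 6, 1, 10, 1, 4, 1, 8, 10, 2, 8, 2, 8, 0, 6, 1, 4, 8, 2, 6, 2, 4, 4, 0, 6, 0, 4], [8, 5, 5, 1, 8, 4, 10, 4, 6, 5, 6, 8, 5, 0, 6, 2, 5, 5, 6, 4, 1, 5, 2, 4, 0, 5, 1], 23, 2, 1, 1, 10, [1, 5], [[8, 2, 6, 2, 4, 10, 5, 1, 10, 6, 5, 0, 8, 4, 6,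 0, 6, 0, 4, 6, 0, 5, 2, 1, 5, 1, 2, 5, 0, 2], [2, 8, 6, 10, 0, 8, 5, 8, 4, 2, 10, 8, 6, 4, 8, 4, 8, 6, 4, 6, 4, 0, 6, 5, 5, 5, 1], [0, 2, 5, 2, 4, 4, 6, 2, 10, 6, 5, 0, 6, 8, 5, 8, 5, 6, 2, 6, 5, 6, 5, 5, 6, 2, 4, 4, 4, 0, 4], [6, 1, 2, 8, 5, 10, 0, 10, 2, 10, 0, 6, 1, 8, 5, 8, 0, 4, 8, 1, 6, 1, 6, 5, 5, 1, 5, 2, 4, 0], [10, 1, 6, 4, 10, 6, 0, 5, 10, 8, 1, 2, 8, 0, 4, 1, 8, 6, 4, 6, 1, 6, 2, 6, 1, 6, 5, 0, 5, 1, 4, 0]], [[0, 3, 5, 0, 3, 5, 0, 3, 5, 0, 3, 5, 0, 3, 5, 0, 3, 5, 0, 3, 5, 0, 3, 5, 0, 3, 5, 0, 3, 5], [1, 3, 3, 3, 5, 1, 3, 3, 3, 5, 1, 3, 3, 3, 5, 1, 3, 3, 3, 5, 1, 3, 3, 3, 5, 1, 3, 3, 3, 5, 1, 3, 3, 3, 5, 1, 3, 3, 3, 5, 1, 3, 3, 3, 5, 1, 3, 3, 3, 5, 1, 3, 3, 3, 5, 1, 3, 3, 3, 5]], [[[8, 2, 4, 0, 2, 4, 10, 0, 8, 10, 6, 5, 6, 1, 8,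 0, 5, 8, 0, 6, 5, 0, 5, 2, 6, 0, 2], [8, 5, 5, 1, 8, 4, 10, 4, 6, 5, 6, 8, 5, 0, 6, 2, 5, 5, 6, 4, 1, 5, 2, 4, 0, 5, 1], [0, 6, 1, 10, 1, 4, 1, 8, 10, 2, 8, 2, 8, 0, 6, 1, 4, 8, 2, 6, 2, 4, 4, 0, 6, 0, 4]]]⟩
theorem od_b : od.basic 4157776806543360000 24311 = true := by decide +kernel
theorem od_c : conjB 17 m_ts (chainBase [] c_ls) [8, 4, 8, 2, 6, 8, 5, 5, 5, 10] od.u cu_S.u od.Cl cu_S.Cl = true := by decide +kernel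
theorem od_k1 : od.cands 1 ([] :: od.Cl) [[0, 1, 1, 1, 1, 1, 1, 1, 1, 1, 1], [1, 1, 1, 1, 1, 1, 1, 1, 1, 1, 1], [1, 1, 1, 1, 1, 1, 1, 1, 1, 1, 1], [1, 1, 1, 1, 1, 1, 3, 1, 1, 1, 1], [1, 1, 1, 3, 1, 3, 1, 1, 1, 1, 1], [1, 1, 1, 1, 1, 1, 1, 1, 1, 1, 1]] = true := by decide +kernel
theorem od_k5 : od.cands 5 ([] :: od.Cl) [[1, 1, 1, 1, 1, 3, 1, 1, 1, 1, 1], [1, 1, 1, 1, 1, 1, 1, 3, 1, 3, 1], [1, 1, 1, 1, 1, 1, 1, 1, 1, 1, 1], [1, 1, 1, 1, 1, 1, 1, 1, 1, 3, 1], [1, 1, 1, 1, 1, 1, 1, 1, 1, 1, 1], [1, 1, 1, 1, 1, 1, 1, 1, 1, 1, 1]] = true := by decide +kernel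
theorem out_card {G : Type*} [Group G] {φ : G →* Equiv.Perm ℕ} {γ : ℕ → G} (C : Cert φ γ 17 m_ns m_ts [0, 2, 4, 6, 8, 10] c_ls)
    (hN : Nat.card G = 4157776806543360000) : Nat.card (Cfsg.Out G) = 1 :=
  haveI := C.fin
  OutD.out_one (D := od) C.M C.base hN (by norm_num [od]) od_b (cx_cent C) ((cu_cent C).conj C.M C.base od_c)
    (by
    intro k hk
    simp only [od, List.mem_cons, List.not_mem_nil, or_false] at hk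
    rcases hk with rfl | rfl
    exacts [OutD.cands_sound C.M C.base od_b od_k1, OutD.cands_sound C.M C.base od_b od_k5]) (g_top C) rfl
theorem out_eq : Nat.card (Cfsg.Out Cfsg.Spor.Co1) = 1 := by
  obtain ⟨φ, C⟩ := cert
  exact out_card C card_eq

end Cfsg.Agent.Co1C
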